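import Mathlib
import Cfsg.Agent.Base
import Cfsg.Agent.Lib.CIT.Cls4
import Cfsg.Agent.Lib.Char.BurnsidePQ
import Cfsg.Agent.S4033
import Cfsg.Agent.S4034
import Cfsg.Agent.S4035

/-! Groups whose `p`-regular or primary elements have two class sizes. -/

set_option autoImplicit false
set_option linter.unusedSectionVars false
set_option linter.style.haveILetI false

namespace H72.Rk

open Subgroup H69 H80 H35 H32 Cfsg
open scoped Pointwise

variable {G : Type*} [Group G] [Finite G]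

theorem cop_iff {p n : ℕ} (hp : p.Prime) : n.Coprime p ↔ ¬ p ∣ n :=
  Nat.coprime_comm.trans hp.coprime_iff_not_dvd

theorem npc_iff : HasNormalPComplement 2 G ↔
    ∀ a b : G, ¬ 2 ∣ orderOf a → ¬ 2 ∣ orderOf b → ¬ 2 ∣ orderOf (a * b) := by
  rw [H4.hasNormalPComplement_iff_mul_closed]
  simp only [cop_iff Nat.prime_two]

theorem npc_of_odd_cs (h : ∀ x : G, ¬ 2 ∣ orderOf x → ¬ 2 ∣ cs⟦x⟧) : HasNormalPComplement 2 G := by
  obtain ⟨P⟩ : Nonempty (Sylow 2 G) := inferInstance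
  obtain ⟨-, N, hN, h1, h2, h3⟩ := Cfsg.Agent.S4035.result (p := 2) (fun x hx => by
    rw [ncard_carrier_mk]; exact h x ((cop_iff Nat.prime_two).1 hx)) P
  exact ⟨P, N, hN, isComplement'_of_disjoint_and_mul_eq_univ (by rw [disjoint_iff, inf_comm, h2])
    (by rw [← normal_mul, sup_comm, h3, coe_top])⟩

theorem two_reg {p m : ℕ} (hp : p.Prime) (h : ∀ x : G, ¬ p ∣ orderOf x → cs⟦x⟧ = 1 ∨ cs⟦x⟧ = m) :
    (∃ D : Subgroup G, IsMulCommutative D ∧ ¬ p ∣ Nat.card D ∧ ∃ k : ℕ, D.index = p ^ k) ∨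
    ∃ (q : ℕ) (A : Subgroup G), q.Prime ∧ A ≤ center G ∧ ∃ N : Subgroup G, N.Normal ∧
      (∃ i j, Nat.card N = p ^ i * q ^ j) ∧ N ⊔ A = ⊤ := by
  by_cases hc : ∀ x : G, ¬ p ∣ orderOf x → cs⟦x⟧ = 1
  · exact .inl ((Cfsg.Agent.S4034.result hp).1 fun x hx => ⟨0, by
      rw [ncard_carrier_mk, hc x ((cop_iff hp).1 hx), pow_zero]⟩)
  push Not at hc
  obtain ⟨x, hx, h1⟩ := hc
  haveI := Fact.mk hp
  refine (Cfsg.Agent.S4033.result hp (Set.ncard_eq_two.2 ⟨1, m, fun e =>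
    h1 (((h x hx).resolve_left h1).trans e.symm), Set.ext fun n => ⟨?_, ?_⟩⟩)).imp_right ?_
  · rintro ⟨y, rfl⟩
    simpa only [ncard_carrier_mk, Set.mem_insert_iff, Set.mem_singleton_iff] using
      h y ((cop_iff hp).1 y.2)
  · rintro (rfl | rfl)
    · exact ⟨⟨1, by simp⟩, by simp only [ncard_carrier_mk, cs_one]⟩
    · exact ⟨⟨x, (cop_iff hp).2 hx⟩, by simpa only [ncard_carrier_mk] using (h x hx).resolve_left h1⟩
  · rintro ⟨q, hq, P, Q, A, -, h2, h3, h4, -, h5⟩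
    obtain ⟨i, hi⟩ := P.isPGroup'.exists_card_eq
    obtain ⟨j, hj⟩ := Q.isPGroup'.exists_card_eq
    exact ⟨q, A, hq.out, h2, _, h4, ⟨i, j, by rw [h3, hi, hj]⟩, h5⟩

theorem solv_two {p m : ℕ} (hp : p.Prime)
    (h : ∀ x : G, ¬ p ∣ orderOf x → cs⟦x⟧ = 1 ∨ cs⟦x⟧ = m) : Group.IsSolvable G := by
  rcases two_reg hp h with h1 | ⟨q, A, hq, h1, N, _, ⟨i, j, h2⟩, h3⟩
  · exact solvable_of_ppow hp fun x hx => by
      simpa only [ncard_carrier_mk] using (Cfsg.Agent.S4034.result hp).2 h1 x ((cop_iff hp).2 hx)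
  · have h4 := H1.isSolvable_sup_of_normal (H1.isSolvable_of_le
      (H2.isSolvable_of_isMulCommutative inferInstance) h1)
      (H8.isSolvable_of_card_dvd (G := N) hp hq h2.dvd)
    rw [sup_comm, h3] at h4
    exact H1.isSolvable_of_mulEquiv topEquiv h4

theorem exists_conj_mem {q : ℕ} (hq : q.Prime) {H : Subgroup G} (h : ¬ q ∣ H.index) {x : G}
    (hx : IsPElt q x) : ∃ g : G, g * x * g⁻¹ ∈ H := by
  haveI := Fact.mk hq
  obtain ⟨P, hP⟩ := exists_sylow_le_of_not_dvd_index h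
  obtain ⟨g, hg⟩ := hx.exists_conj_mem P
  exact ⟨g, hP hg⟩

/-- Two primary elements of different orders prime to `u` have commuting conjugates. -/
theorem comm_two {u m p q : ℕ} (hu : u.Prime) (hp : p.Prime) (hq : q.Prime) (pq : p ≠ q)
    (pu : p ≠ u) (qu : q ≠ u) (h : ∀ x : G, ¬ u ∣ orderOf x → cs⟦x⟧ = 1 ∨ cs⟦x⟧ = m) {x y : G}
    (hx : IsPElt p x) (hy : IsPElt q y) : ∃ g : G, g * x * g⁻¹ ∈ Cx⟦y⟧ := by
  rcases two_reg hu h with ⟨D, h1, -, k, h2⟩ | ⟨r, A, hr, h1, N, _, ⟨i, j, h2⟩, h3⟩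
  · have n : ∀ {s : ℕ}, s.Prime → s ≠ u → ¬ s ∣ D.index := fun hs e d =>
      e ((Nat.prime_dvd_prime_iff_eq hs hu).1 (hs.dvd_of_dvd_pow (h2 ▸ d)))
    obtain ⟨a, ha⟩ := exists_conj_mem hp (n hp pu) hx
    obtain ⟨b, hb⟩ := exists_conj_mem hq (n hq qu) hy
    refine ⟨b⁻¹ * a, (conj_mem_Cx_conj (g := b)).1 (mem_Cx.2 ?_)⟩
    have := congrArg Subtype.val (h1.is_comm.comm ⟨_, ha⟩ ⟨_, hb⟩)
    simpa [mul_assoc] using this
  · have n : ∀ {s : ℕ} {z : G}, s.Prime → s ≠ u → s ≠ r → IsPElt s z → z ∈ center G := by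
      intro s z hs e1 e2 hz
      haveI := Fact.mk hs
      refine hz.mem_of_index fun d => ?_
      have : (center G).index ∣ Nat.card N := by
        rw [← relIndex_top_right, ← eq_top_iff.2 (h3.ge.trans (sup_le_sup_left h1 N)),
          relIndex_sup_right]
        exact relIndex_dvd_card _ _
      rcases (Nat.Prime.dvd_mul hs).1 (h2 ▸ d.trans this) with d | d
      exacts [e1 ((Nat.prime_dvd_prime_iff_eq hs hu).1 (hs.dvd_of_dvd_pow d)),
        e2 ((Nat.prime_dvd_prime_iff_eq hs hr).1 (hs.dvd_of_dvd_pow d))]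
    rcases eq_or_ne p r with rfl | e
    · exact ⟨1, by simpa using mem_Cx_comm.1 (center_le_Cx x (n hq qu pq.symm hy))⟩
    · exact ⟨1, by simpa using center_le_Cx y (n hp pu e hx)⟩

theorem le_syl {q : ℕ} [Fact q.Prime] {T K P : Subgroup G} (hT : IsSylowIn q T K)
    (hP : IsPGroup q P) (h1 : T ≤ P) (h2 : Nat.card P ∣ Nat.card K) : P ≤ T := by
  rw [← H1.card_mul_relIndex_of_le hT.le] at h2
  exact (eq_of_le_of_card_ge h1 (Nat.le_of_dvd Nat.card_pos
    ((H1.coprime_card_of_isPGroup_of_coprime hP ((cop_iff Fact.out).2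
      hT.not_dvd_relIndex)).dvd_of_dvd_mul_right h2))).ge

theorem isPGroup_sup_zpowers {q : ℕ} [Fact q.Prime] {T : Subgroup G} (hT : IsPGroup q T) {w : G}
    (hw : IsPElt q w) (hn : w ∈ 𝐍(T)) : IsPGroup q (T ⊔ zpowers w : Subgroup G) :=
  hT.to_sup_of_normal_left' (isPElt_iff_zpowers.1 hw) (zpowers_le.2 hn)

theorem cent_pCore {m p q : ℕ} (h : ∀ q : ℕ, q.Prime → ∀ x : G, IsPElt q x → cs⟦x⟧ = 1 ∨ cs⟦x⟧ = m)
    (hp : p.Prime) (hq : q.Prime) (pq : p ≠ q) {v : G} (hv : IsPElt p v) :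
    v ∈ 𝐂(pCore q G) := by
  haveI := Fact.mk hq
  rcases h p hp v hv with e | e
  · exact center_le_centralizer _ (cs_eq_one_iff.1 e)
  obtain ⟨T, hT⟩ := exists_isSylowIn q Cx⟦v⟧
  refine zpowers_le.1 (H2.thompson_PxQ hT.isP (by
    rw [Nat.card_zpowers]; exact (cop_iff hq).2 (not_dvd_of_pElt hq hp pq hv)) H1.isPGroup_pCore
    (by rw [H80.centralizer_zpowers]; exact hT.le) le_normalizer_of_normal le_normalizer_of_normal
    fun w hw => ?_)
  rw [H80.centralizer_zpowers]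
  have hw2 := isPElt_of_mem H1.isPGroup_pCore hw.1
  rcases h q hq w hw2 with e1 | e1
  · exact center_le_Cx v (cs_eq_one_iff.1 e1)
  exact hT.le (le_syl hT (isPGroup_sup_zpowers hT.isP hw2 (centralizer_le_normalizer _ hw.2))
    le_sup_left (card_eq_of_index (e1.trans e.symm) ▸ card_dvd_of_le
      (sup_le (le_Cx_iff.2 hw.2) (zpowers_le_Cx w))) (mem_sup_right (mem_zpowers w)))

theorem comm_of_primary [Group.IsSolvable G]
    (h : ∀ p q : ℕ, p.Prime → q.Prime → p ≠ q → ∀ v : G, IsPElt p v → v ∈ 𝐂(pCore q G))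
    {p q : ℕ} (hp : p.Prime) (hq : q.Prime) (pq : p ≠ q) {u v : G} (hu : IsPElt p u)
    (hv : IsPElt q v) : u ∈ Cx⟦v⟧ := by
  have key : ∀ {p q : ℕ} {u v : G}, p.Prime → q.Prime → p ≠ q → IsPElt p u → IsPElt q v →
      IsPElt p (v * u * v⁻¹ * u⁻¹) := by
    intro p q u v hp hq pq hu hv
    haveI := Fact.mk hp
    have F : ∀ {f g : G}, f ∈ fittingSubgroup G → (∀ r : ℕ, r.Prime → r ∣ orderOf f →
        g ∈ 𝐂(pCore r G)) → f ∈ Cx⟦g⟧ := fun hf hg =>
      mem_of_forall_isPElt_zpowers fun r x hr d hx hxf => by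
        haveI := Fact.mk hr
        exact mem_Cx.2 (hg r hr d x (mem_pCore_of_mem_fitting hx (zpowers_le.2 hf hxf)))
    have hc : v * u * v⁻¹ * u⁻¹ ∈ fittingSubgroup G := H1.centralizer_fitting_le fun f hf =>
      mem_Cx.1 (F hf fun r hr _ => by
        rcases eq_or_ne p r with rfl | e
        · rw [show v * u * v⁻¹ * u⁻¹ = v * (u * v⁻¹ * u⁻¹) by group]
          exact mul_mem (h q p hq hp pq.symm v hv) (h q p hq hp pq.symm _ (hv.inv.conj u))
        · exact mul_mem (h p r hp hr e _ (hu.conj v)) (h p r hp hr e _ hu.inv))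
    set c := v * u * v⁻¹ * u⁻¹ with hce
    have ha := mem_pCore_of_mem_fitting (isPElt_pPart p c) (pPart_mem p hc)
    have hb : pReg p c ∈ Cx⟦u⟧ := F (pReg_mem p hc) fun r hr d => h p r hp hr
      (fun e => not_dvd_orderOf_pReg p c (e ▸ d)) u hu
    have h1 : IsPElt p (pPart p c * u) := isPElt_of_mem (isPGroup_sup_zpowers H1.isPGroup_pCore hu
      (le_normalizer_of_normal (mem_top u))) (mul_mem (mem_sup_left ha) (mem_sup_right (mem_zpowers u)))
    have h2 : pPart p c * u * pReg p c = v * u * v⁻¹ := by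
      rw [mul_assoc, ← mem_Cx.1 hb, ← mul_assoc, pPart_mul_pReg, hce, inv_mul_cancel_right]
    have h3 := isPPart_mul h1 (not_dvd_orderOf_pReg p c)
      ((commute_pPart_pReg p c).mul_left (mem_Cx_iff_commute.1 hb))
    have h4 := isPPart_mul (hu.conj v) (not_dvd_orderOf_one (p := p)) (Commute.one_right _)
    rw [mul_one] at h4
    rw [h2] at h3
    rw [← isPPart_unique h3 h4, mul_eq_left] at h2
    exact (pReg_eq_one_iff p).1 h2
  haveI := Fact.mk hp
  haveI := Fact.mk hq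
  have h1 := (key hq hp pq.symm hv hu).inv
  rw [show (u * v * u⁻¹ * v⁻¹)⁻¹ = v * u * v⁻¹ * u⁻¹ by group] at h1
  have h2 := h1.eq_one_of_not_dvd (not_dvd_of_pElt hq hp pq (key hp hq pq hu hv))
  rw [mul_inv_eq_one, mul_inv_eq_iff_eq_mul] at h2
  exact mem_Cx'.2 h2

theorem npc_of_primary [Group.IsSolvable G] {m : ℕ}
    (h : ∀ q : ℕ, q.Prime → ∀ x : G, IsPElt q x → cs⟦x⟧ = 1 ∨ cs⟦x⟧ = m) :
    HasNormalPComplement 2 G := npc_of_odd_cs fun x hx => by
  obtain ⟨P⟩ : Nonempty (Sylow 2 G) := inferInstance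
  exact not_dvd_index_of_sylow_le P fun s hs => mem_Cx_comm.1 (mem_of_forall_isPElt_zpowers
    fun q y hq d hy _ => comm_of_primary (fun p q hp hq pq v => cent_pCore h hp hq pq) hq
      Nat.prime_two (fun e => hx (e ▸ d)) hy (isPElt_of_mem P.isPGroup' hs))

theorem odd_mul {O : Subgroup G} [O.Normal] (hO : ¬ 2 ∣ Nat.card O) {v w : G}
    (hv : ¬ 2 ∣ orderOf v) (hw : w ∈ O) : ¬ 2 ∣ orderOf (v * w) := fun d => by
  have h1 : (v * w) ^ orderOf v ∈ O := by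
    rw [← QuotientGroup.eq_one_iff, QuotientGroup.mk_pow, QuotientGroup.mk_mul_of_mem _ hw,
      ← QuotientGroup.mk_pow, pow_orderOf_eq_one, QuotientGroup.mk_one]
  have h2 : orderOf (v * w) ∣ orderOf v * Nat.card O := orderOf_dvd_of_pow_eq_one (by
    rw [pow_mul]; exact orderOf_dvd_iff_pow_eq_one.1 (O.orderOf_dvd_natCard h1))
  exact ((Nat.Prime.dvd_mul Nat.prime_two).1 (d.trans h2)).elim hv hO

theorem npc_of_core {j : ℕ} (h : ∀ x : G, ¬ 2 ∣ orderOf x → x ≠ 1 → cs⟦x⟧ = 2 ^ j)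
    {O : Subgroup G} [O.Normal] (hO : ¬ 2 ∣ Nat.card O) (hne : O ≠ ⊥) :
    HasNormalPComplement 2 G := by
  obtain ⟨w₀, hw₀, w1⟩ := O.bot_or_exists_ne_one.resolve_left hne
  have key : ∀ v : G, ¬ 2 ∣ orderOf v → v ∉ O → ∀ w ∈ O, Cx⟦v⟧ ≤ Cx⟦w⟧ := fun v hv hvO => by
    set K := (Cx⟦(v : G ⧸ O)⟧).comap (QuotientGroup.mk' O)
    have le : ∀ w ∈ O, Cx⟦v * w⟧ ≤ K := fun w hw => by
      have := Cx_le_comap (QuotientGroup.mk' O) (v * w)
      rwa [QuotientGroup.mk'_apply, QuotientGroup.mk_mul_of_mem _ hw] at this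
    have cs' : ∀ w ∈ O, cs⟦v * w⟧ = 2 ^ j := fun w hw => h _ (odd_mul hO hv hw) fun e =>
      hvO (by rw [eq_inv_of_mul_eq_one_left e]; exact inv_mem hw)
    obtain ⟨T, hT⟩ := exists_isSylowIn 2 K
    obtain ⟨n, hn, h1⟩ := H2.exists_mul_mem_centralizer (A := T) (N := O) le_normalizer_of_normal
      (H1.coprime_card_of_isPGroup_of_coprime hT.isP ((cop_iff Nat.prime_two).2 hO))
      (.inl (H1.isSolvable_of_isPGroup hT.isP)) (g := v) fun a ha => by
        have := mem_Cx.1 (hT.le ha)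
        rw [← QuotientGroup.eq_one_iff]
        simp only [QuotientGroup.mk'_apply] at this
        simp [mul_assoc, ← mul_assoc (a : G ⧸ O), this]
    have h2 : K.index = 2 ^ j := by
      have h3 := relIndex_mul_index (le n hn)
      have h4 := hT.not_dvd_relIndex_of_le (le_Cx_iff.2 h1) (le n hn)
      rw [cs' n hn] at h3
      rw [← h3, Nat.eq_one_of_dvd_coprimes (((cop_iff Nat.prime_two).2 h4).pow_right j) dvd_rfl
        (Dvd.intro _ h3), one_mul]
    intro w hw g hg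
    have e : ∀ w ∈ O, Cx⟦v * w⟧ = K := fun w hw =>
      eq_of_le_of_index (le w hw) ((cs' w hw).trans h2.symm)
    have h3 : g ∈ Cx⟦v * w⟧ := by rwa [e w hw, ← e 1 (one_mem O), mul_one]
    rw [mem_Cx] at hg h3 ⊢
    rwa [← mul_assoc, hg, mul_assoc, mul_assoc, mul_right_inj] at h3
  have oO : ∀ w ∈ O, ¬ 2 ∣ orderOf w := fun w hw => not_dvd_orderOf_of_mem hO hw
  have eq : ∀ v : G, ¬ 2 ∣ orderOf v → v ∉ O → Cx⟦v⟧ = Cx⟦w₀⟧ := fun v hv hvO =>
    eq_of_le_of_index (key v hv hvO w₀ hw₀) ((h v hv fun e => hvO (e ▸ one_mem O)).trans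
      (h w₀ (oO w₀ hw₀) w1).symm)
  refine npc_iff.2 fun a b ha hb => ?_
  by_cases h1 : b ∈ O
  · exact odd_mul hO ha h1
  refine not_dvd_orderOf_mul ha hb (mem_Cx_iff_commute.1 ?_)
  by_cases h2 : a ∈ O
  · exact key b hb h1 a h2 (self_mem_Cx b)
  · rw [eq a ha h2, ← eq b hb h1]
    exact self_mem_Cx b

/-- A `2`-group in which squaring does not enlarge centralisers is abelian. -/
theorem comm_of_sq (hG : IsPGroup 2 G) (h : ∀ w : G, w * w ≠ 1 → Cx⟦w * w⟧ ≤ Cx⟦w⟧) (a b : G) :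
    a * b = b * a := by
  by_contra hc
  haveI : Nontrivial (G ⧸ center G) := QuotientGroup.nontrivial_iff.2 fun e =>
    hc (mem_center_iff.1 (e ▸ mem_top b) a)
  obtain ⟨P⟩ : Nonempty (Sylow 2 (G ⧸ center G)) := inferInstance
  have hP : (P : Subgroup (G ⧸ center G)) = ⊤ :=
    (P.is_maximal' ((hG.to_quotient _).to_subgroup ⊤) le_top).symm
  obtain ⟨z, -, h1, h2⟩ := exists_central P ((hG.to_quotient _).card_eq_or_dvd.resolve_left
    Finite.one_lt_card.ne')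
  obtain ⟨u, rfl⟩ := QuotientGroup.mk_surjective z
  have u1 : u ∉ center G := fun e => H9.ne_one_of_orderOf_two h1 ((QuotientGroup.eq_one_iff u).2 e)
  have u2 : u * u ∈ center G := (QuotientGroup.eq_one_iff _).1 (H9.mul_self_of_orderOf_two h1)
  have u3 : ∀ g : G, u * g * u⁻¹ * g⁻¹ ∈ center G := fun g => (QuotientGroup.eq_one_iff _).1 (by
    have := mem_Cx'.1 (h2 (hP ▸ mem_top (g : G ⧸ center G)))
    simp [this])
  have uu : u * u = 1 := by_contra fun e =>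
    u1 (Cx_eq_top_iff.1 (eq_top_iff.2 ((Cx_eq_top_iff.2 u2).ge.trans (h u e))))
  have k : ∀ g : G, g * g = 1 ∨ u ∈ Cx⟦g⟧ := fun g => or_iff_not_imp_left.2 fun e => h g e (by
    have e1 := mem_center_iff.1 (u3 g)
    set c := u * g * u⁻¹ * g⁻¹ with hce
    have e2 : u * g = c * g * u := by rw [hce]; group
    have e3 : c * c = 1 := by
      have : u * u * g = c * c * g * (u * u) := by
        rw [mul_assoc u, e2, ← mul_assoc, ← mul_assoc, e1 u, mul_assoc c u, e2]; group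
      rwa [uu, one_mul, mul_one, eq_comm, mul_eq_right] at this
    rw [mem_Cx, ← mul_assoc, e2, mul_assoc _ u, e2, mul_assoc c g, ← mul_assoc g, ← mul_assoc g,
      e1 g, ← mul_assoc, ← mul_assoc, ← mul_assoc, e3, one_mul])
  refine u1 (mem_center_iff.2 fun s => (k s).elim (fun e => (k (u * s)).elim (fun e1 => ?_)
    fun e1 => ?_) mem_Cx'.1)
  · rw [eq_inv_of_mul_eq_one_left e1, _root_.mul_inv_rev, inv_eq_of_mul_eq_one_left e,
      inv_eq_of_mul_eq_one_left uu]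
  · have := mem_Cx.1 e1
    rw [mul_assoc, mul_right_inj] at this
    exact this.symm

end H72.Rk
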