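import Mathlib
import Cfsg.Agent.Base
import Cfsg.Agent.Lib.CIT.Cls4
import Cfsg.Agent.S0252
import Cfsg.Agent.S0253
import Cfsg.Agent.S0324
import Cfsg.Agent.S2238
import Cfsg.Agent.S2476
import Cfsg.Agent.S2508

/-! The number of class sizes of some simple groups. -/

set_option autoImplicit false
set_option linter.unusedSectionVars false
set_option linter.style.haveILetI false

namespace H72.Rk

open Subgroup H69 H80 H35 H32 Cfsg Matrix
open scoped Pointwise MatrixGroups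

variable {G : Type*} [Group G] [Finite G]

theorem sizes_fin : (sizes G).Finite := (Set.finite_range fun x : G => cs⟦x⟧).subset fun _ hn => hn.2

theorem mem_sizes (hZ : center G = ⊥) {x : G} (h : x ≠ 1) : cs⟦x⟧ ∈ sizes G :=
  ⟨one_lt_cs_iff.2 (not_mem_center hZ h), x, rfl⟩

theorem ncard_even {F : Type*} [Field F] [Fintype F] {m : ℕ} (hm : 2 ≤ m)
    (hF : Fintype.card F = 2 ^ m) (e : G ≃* PSL(2, F)) : (sizes G).ncard = 3 := by
  rw [sizes_equiv (e.trans (H64.SL2.projEquiv (two_eq_zero_of_card hF)).symm)]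
  exact ncard_sizes_sl2 hm hF

theorem ncard_of_range {a b c d : ℕ} (h1 : 1 < a) (h2 : a < b) (h3 : b < c) (h4 : c < d)
    (h : ∀ n, n ∈ Set.range (fun g : G => cs⟦g⟧) ↔ n = 1 ∨ n = a ∨ n = b ∨ n = c ∨ n = d) :
    (sizes G).ncard = 4 := by
  have : sizes G = {a, b, c, d} := Set.ext fun n => by
    rw [show n ∈ sizes G ↔ 1 < n ∧ n ∈ Set.range (fun g : G => cs⟦g⟧) from Iff.rfl, h]
    simp only [Set.mem_insert_iff, Set.mem_singleton_iff]
    omega
  rw [this, Set.ncard_insert_of_notMem (by simp; omega), Set.ncard_insert_of_notMem (by simp; omega),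
    Set.ncard_pair h4.ne]

theorem ncard_odd {F : Type*} [Field F] [Fintype F] (ho : Odd (Fintype.card F))
    (h7 : 7 ≤ Fintype.card F) (e : G ≃* PSL(2, F)) : (sizes G).ncard = 4 := by
  rw [sizes_equiv e]
  obtain ⟨h1, h3⟩ := Cfsg.Agent.S2508.result (F := F) ho.not_two_dvd_nat h7
  obtain ⟨k, hk⟩ := ho
  rw [hk] at h1 h3 h7
  have e1 : ((2 * k + 1) ^ 2 - 1) / 2 = 2 * k * k + 2 * k := by
    rw [show (2 * k + 1) ^ 2 = 2 * (2 * k * k + 2 * k) + 1 by ring]; omega
  have e2 : (2 * k + 1) * (2 * k + 1 + 1) / 2 = 2 * k * k + 3 * k + 1 := by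
    rw [show (2 * k + 1) * (2 * k + 1 + 1) = 2 * (2 * k * k + 3 * k + 1) by ring]; omega
  have e3 : (2 * k + 1) * (2 * k + 1 - 1) = 2 * (2 * k * k + k) := by
    rw [Nat.add_sub_cancel]; ring
  have e4 : (2 * k + 1) * (2 * k + 1 + 1) = 2 * (2 * k * k + 3 * k + 1) := by ring
  have e5 : 6 * k ≤ 2 * k * k := by nlinarith
  rw [e1, e3] at h1 h3
  rw [e2] at h1
  rw [e4] at h1 h3
  generalize 2 * k * k = n at h1 h3 e5
  rcases (by omega : (2 * k + 1) % 4 = 1 ∨ (2 * k + 1) % 4 = 3) with h | h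
  · exact ncard_of_range (a := n + 2 * k) (b := n + 3 * k + 1) (c := 2 * (n + k))
      (d := 2 * (n + 3 * k + 1)) (by omega) (by omega) (by omega) (by omega) fun m => by
        rw [h1 h]; simp only [Set.mem_insert_iff, Set.mem_singleton_iff]
  · exact ncard_of_range (a := n + k) (b := n + 2 * k) (c := 2 * (n + k))
      (d := 2 * (n + 3 * k + 1)) (by omega) (by omega) (by omega) (by omega) fun m => by
        rw [h3 h]; simp only [Set.mem_insert_iff, Set.mem_singleton_iff]; omega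

theorem ncard_l2 {F : Type*} [Field F] [Fintype F] (h : 3 < Fintype.card F) (e : G ≃* PSL(2, F)) :
    (sizes G).ncard = 3 ∨ Odd (Fintype.card F) ∧ 7 ≤ Fintype.card F := by
  rcases Nat.even_or_odd (Fintype.card F) with he | ho
  · obtain ⟨p, hp⟩ := CharP.exists F
    obtain ⟨n, hp', hn⟩ := FiniteField.card F p
    obtain rfl : p = 2 := ((Nat.prime_dvd_prime_iff_eq Nat.prime_two hp').1
      (Nat.prime_two.dvd_of_dvd_pow (hn ▸ even_iff_two_dvd.1 he))).symm
    refine .inl (ncard_even (m := n) ?_ hn e)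
    rw [hn] at h
    exact (Nat.pow_le_pow_iff_right (by norm_num : 1 < 2)).1 h
  by_cases h5 : Fintype.card F = 5
  · haveI : Fintype (GaloisField 2 2) := Fintype.ofFinite _
    have h4 : Fintype.card (GaloisField 2 2) = 2 ^ 2 := by
      rw [← Nat.card_eq_fintype_card, GaloisField.card 2 2 (by decide)]
    obtain ⟨f⟩ := Cfsg.Agent.S0253.result h5
    obtain ⟨g⟩ := Cfsg.Agent.S0252.result h4
    exact .inl (ncard_even le_rfl h4 ((e.trans f).trans g.symm))
  · obtain ⟨k, hk⟩ := id ho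
    exact .inr ⟨ho, by omega⟩

theorem five (hZ : center G = ⊥) (hs : ¬ Group.IsSolvable G) (s : Fin 4 → ℕ) (h0 : s 0 = 2)
    (hp : ∀ i, (s i).Prime) (hd : ∀ i, s i ∣ Nat.card G)
    (hn : ∀ i j, i ≠ j → s i ≠ s j ∧ ∀ g : G, orderOf g ≠ s i * s j) : 5 ≤ (sizes G).ncard := by
  by_contra hc
  have := fun i => H1.exists_mem_orderOf_eq_prime (H := (⊤ : Subgroup G)) (hp i) (by rw [card_top]; exact hd i)
  choose x _ hx using this
  have key : ∀ i j, s j ∣ Nat.card Cx⟦x i⟧ → i = j := fun i j h => by_contra fun e => by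
    obtain ⟨y, h1, h2⟩ := H1.exists_mem_orderOf_eq_prime (hp j) h
    refine (hn i j e).2 (x i * y) ?_
    rw [(mem_Cx_iff_commute.1 h1).orderOf_mul_eq_mul_orderOf_of_coprime
      (by rw [hx, h2]; exact (Nat.coprime_primes (hp i) (hp j)).2 (hn i j e).1), hx, h2]
  have inj : Function.Injective fun i => cs⟦x i⟧ := fun i j h => key i j
    (card_eq_of_index h ▸ hx j ▸ H1.orderOf_dvd_card_of_mem (self_mem_Cx _))
  have h4 : (Set.range fun i => cs⟦x i⟧).ncard = 4 := by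
    rw [Set.ncard_range_of_injective inj]; simp
  have e : (Set.range fun i => cs⟦x i⟧) = sizes G := Set.eq_of_subset_of_ncard_le
    (by rintro _ ⟨i, rfl⟩; exact mem_sizes hZ (ne_one_of_prime (hx i ▸ hp i))) (by omega) sizes_fin
  have ev : ∀ t u : G, orderOf t = 2 → u ∈ Cx⟦t⟧ → u ≠ 1 → cs⟦u⟧ = cs⟦x 0⟧ := fun t u ht hu u1 => by
    obtain ⟨i, hi⟩ := e.ge (mem_sizes hZ u1)
    rw [← hi, key i 0 (card_eq_of_index hi ▸ h0 ▸ ht ▸ H1.orderOf_dvd_card_of_mem (mem_Cx_comm.1 hu))]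
  obtain ⟨F, _, _, n, h1, h2, ⟨f⟩⟩ := (ac_of fun t u v ht hu hv v1 h => (eq_of_le_of_index h
    ((ev t u ht hu fun e => not_mem_center hZ v1 (Cx_eq_top_iff.1 (eq_top_iff.2
      (by rwa [e, Cx_one] at h)))).trans (ev t v ht hv v1).symm)).ge).psl2' hZ hs
  have := ncard_even h1 h2 f
  rw [← e] at this
  omega

theorem five' (hZ : center G = ⊥) (hs : ¬ Group.IsSolvable G) (n : Fin 4 → ℕ) (h0 : (n 0).minFac = 2)
    (h1 : ∀ i, n i ≠ 1) (hd : ∀ i, n i ∣ Nat.card G) (hc : ∀ i j, i ≠ j → (n i).Coprime (n j))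
    (ho : ∀ g : G, ∃ i, orderOf g ∣ n i) : 5 ≤ (sizes G).ncard := by
  have k : ∀ i j, (n i).minFac ∣ n j → i = j := fun i j h => by_contra fun e =>
    (Nat.minFac_prime (h1 i)).ne_one (Nat.eq_one_of_dvd_coprimes (hc i j e) (Nat.minFac_dvd _) h)
  refine five hZ hs (fun i => (n i).minFac) h0 (fun i => Nat.minFac_prime (h1 i))
    (fun i => (Nat.minFac_dvd _).trans (hd i)) fun i j e =>
      ⟨fun e1 => e (k i j (e1 ▸ Nat.minFac_dvd _)), fun g e1 => ?_⟩
  obtain ⟨l, hl⟩ := ho g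
  rw [e1] at hl
  exact e ((k i l (dvd_of_mul_right_dvd hl)).trans (k j l (dvd_of_mul_left_dvd hl)).symm)

theorem five_l34 (hZ : center G = ⊥) (hs : ¬ Group.IsSolvable G) {F : Type*} [Field F] [Fintype F]
    (hF : Fintype.card F = 4) (e : G ≃* PSL(3, F)) : 5 ≤ (sizes G).ncard := by
  haveI : CharP F 2 := H14.Sz.charP_two_of_card (n := 1) hF
  refine five' hZ hs ![4, 3, 5, 7] (by simp [Nat.minFac, Nat.minFacAux]) (by decide) (fun i => ?_)
    (by decide) fun g => ?_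
  · rw [Nat.card_congr e.toEquiv, card_psl3_four hF]
    revert i
    decide
  have h := (Cfsg.Agent.S2476.result (F := F) 2).le ⟨e g, rfl⟩
  rw [hF, MulEquiv.orderOf_eq] at h
  rcases h with h | h | h | h | ⟨-, h⟩
  exacts [⟨3, h⟩, ⟨2, h⟩, ⟨1, h⟩, ⟨0, h.trans (by decide)⟩, ⟨0, h⟩]

theorem five_sz (hZ : center G = ⊥) (hs : ¬ Group.IsSolvable G) (h : Cfsg.Lie.IsoSuzuki G) :
    5 ≤ (sizes G).ncard := by
  obtain ⟨F, _, _, m, ⟨hm, hF⟩, ⟨⟨e⟩⟩⟩ := exists_model h
  haveI : Finite (Cfsg.Sz F m) := Finite.of_equiv _ e.toEquiv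
  have hc := (Nat.card_congr e.toEquiv).trans (Cfsg.Agent.S0324.result hm hF)
  have ho := Cfsg.Agent.S2238.result hm hF
  obtain ⟨r, hr⟩ : ∃ r, 2 ^ m = 2 * r := ⟨2 ^ (m - 1), by rw [← pow_succ']; congr 1; omega⟩
  have r0 : 0 < r := by have := Nat.two_pow_pos m; omega
  have e1 : 2 ^ (2 * m + 1) = 8 * r * r := by rw [pow_succ, pow_mul', hr]; ring
  have e2 : 2 ^ (m + 1) = 4 * r := by rw [pow_succ, hr]; ring
  have e3 : 4 * r ≤ 8 * r * r := by nlinarith
  obtain ⟨a, ha⟩ : ∃ a, 8 * r * r = a + 1 := ⟨8 * r * r - 1, by omega⟩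
  obtain ⟨b, hb⟩ : ∃ b, 8 * r * r = b + 4 * r := ⟨8 * r * r - 4 * r, by omega⟩
  have ca : ∀ {x y u v : ℕ}, x % 2 = 1 → ((u : ℤ) * x + v * y = 2 * 2 ^ m * 2 ^ m * 2 ^ m ∨
      (u : ℤ) * x - v * y = 2 ∨ (u : ℤ) * x - v * y = 4 * 2 ^ m) → x.Coprime y := by
    intro x y u v hx h
    refine Nat.coprime_of_dvd fun p hp d1 d2 => ?_
    have d1' := Int.natCast_dvd_natCast.2 d1
    have d2' := Int.natCast_dvd_natCast.2 d2
    have : p ∣ 2 ^ (3 * m + 2) := Int.natCast_dvd_natCast.1 (by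
      rcases h with h | h | h
      · refine (h ▸ dvd_add (d1'.mul_left u) (d2'.mul_left v)).trans ⟨2, ?_⟩
        push_cast; ring
      · refine (h ▸ dvd_sub (d1'.mul_left u) (d2'.mul_left v)).trans ⟨2 ^ (3 * m + 1), ?_⟩
        push_cast; ring
      · refine (h ▸ dvd_sub (d1'.mul_left u) (d2'.mul_left v)).trans ⟨2 ^ (2 * m), ?_⟩
        push_cast; ring)
    obtain rfl := (Nat.prime_dvd_prime_iff_eq hp Nat.prime_two).1 (hp.dvd_of_dvd_pow this)
    omega
  have hr' : (2 : ℤ) ^ m = 2 * r := by exact_mod_cast hr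
  have ha' : (a : ℤ) = 8 * r * r - 1 := by zify at ha; linarith
  have hb' : (b : ℤ) = 8 * r * r - 4 * r := by zify at hb; linarith
  have c0 : ∀ {x : ℕ}, x % 2 = 1 → (2 ^ (2 * m + 1) * 2 ^ (2 * m + 1)).Coprime x := fun hx => by
    rw [← pow_add]
    exact Nat.Coprime.pow_left _ ((Nat.coprime_two_left).2 (Nat.odd_iff.2 hx))
  have o1 : a % 2 = 1 := by have : 8 * r * r = 2 * (4 * r * r) := by ring
                            omega
  have o2 : (8 * r * r + 4 * r + 1) % 2 = 1 := by have : 8 * r * r = 2 * (4 * r * r) := by ring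
                                                  omega
  have o3 : (b + 1) % 2 = 1 := by have : 8 * r * r = 2 * (4 * r * r) := by ring
                                  omega
  have c1 : (8 * r * r + 4 * r + 1).Coprime a := ca (u := b + 1) (v := 8 * r * r + 1) o2
    (.inr (.inl (by push_cast; rw [ha', hb']; ring)))
  have c2 : (b + 1).Coprime a := ca (u := 8 * r * r + 4 * r + 1) (v := 8 * r * r + 1) o3
    (.inr (.inl (by push_cast; rw [ha', hb']; ring)))
  have c3 : (8 * r * r + 4 * r + 1).Coprime (b + 1) := ca (u := 1) (v := 1) o2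
    (.inr (.inr (by push_cast; rw [hb', hr']; ring)))
  have f : (8 * r * r) ^ 2 + 1 = (8 * r * r + 4 * r + 1) * (b + 1) := by
    zify; rw [hb']; ring
  refine five' hZ hs ![2 ^ (2 * m + 1) * 2 ^ (2 * m + 1), a, 8 * r * r + 4 * r + 1, b + 1]
    ((Nat.minFac_eq_two_iff _).2 ((dvd_pow_self 2 (by omega)).mul_right _)) (fun i => ?_)
    (fun i => ?_) (fun i j hij => ?_) fun g => ?_
  · have : 8 * r ≤ 8 * r * r := by nlinarith
    fin_cases i <;> simp <;> omega
  · rw [hc, e1, f, show 8 * r * r - 1 = a by omega, sq]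
    fin_cases i
    exacts [(dvd_mul_right _ _).mul_right _, dvd_mul_left _ _,
      ((dvd_mul_right _ _).mul_left _).mul_right _, ((dvd_mul_left _ _).mul_left _).mul_right _]
  · fin_cases i <;> fin_cases j <;> first | exact (hij rfl).elim | skip
    exacts [c0 o1, c0 o2, c0 o3, (c0 o1).symm, c1.symm, c2.symm, (c0 o2).symm, c1, c3, (c0 o3).symm,
      c2, c3.symm]
  rcases eq_or_ne g 1 with rfl | g1
  · exact ⟨0, by simp⟩
  obtain ⟨U, ⟨h1, h2⟩, -⟩ := ho (e g) (by simpa using g1)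
  have d := MulEquiv.orderOf_eq e g ▸ H1.orderOf_dvd_card_of_mem h2
  rcases h1 with ⟨P, rfl⟩ | ⟨-, h1 | h1 | h1⟩
  · obtain ⟨k, hk⟩ := P.isPGroup'.exists_card_eq
    have d2 := orderOf_dvd_natCard g
    rw [hc, e1, f, show 8 * r * r - 1 = a by omega, mul_assoc, ← e1, sq] at d2
    refine ⟨0, Nat.Coprime.dvd_of_dvd_mul_right (Nat.Coprime.coprime_dvd_left (hk ▸ d)
      (Nat.Coprime.pow_left _ (Nat.coprime_two_left.2 ?_))) d2⟩
    exact ((Nat.odd_iff.2 (e1 ▸ o2)).mul (Nat.odd_iff.2 o3)).mul (Nat.odd_iff.2 o1)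
  · exact ⟨1, by rwa [h1, e1, show 8 * r * r - 1 = a by omega] at d⟩
  · exact ⟨2, by rwa [h1, e1, e2] at d⟩
  · exact ⟨3, by rwa [h1, e1, e2, show 8 * r * r - 4 * r = b by omega] at d⟩

theorem six_a7 (hZ : center G = ⊥) (e : G ≃* alternatingGroup (Fin 7)) : 6 ≤ (sizes G).ncard := by
  have key : ∀ (m : Multiset ℕ) (N : ℕ), m ≠ 0 → m.sum ≤ 7 → (∀ a ∈ m, 2 ≤ a) →
      Even (m.sum + Multiset.card m) →
      (7 - m.sum).factorial * m.prod * ∏ n ∈ m.toFinset, (m.count n).factorial = N →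
      ∃ x : G, x ≠ 1 ∧ (Nat.card Cx⟦x⟧ = N ∨ 2 * Nat.card Cx⟦x⟧ = N) := by
    intro m N h0 h1 h2 h3 h4
    obtain ⟨g, rfl⟩ := (Equiv.Perm.exists_with_cycleType_iff (Fin 7)).2 ⟨by simpa using h1, h2⟩
    have hg : g ∈ alternatingGroup (Fin 7) := by
      rw [Equiv.Perm.mem_alternatingGroup, Equiv.Perm.sign_of_cycleType, h3.neg_one_pow]
    refine ⟨e.symm ⟨g, hg⟩, fun e1 => h0 ?_, ?_⟩
    · rw [MulEquiv.symm_apply_eq, map_one] at e1
      rw [Equiv.Perm.cycleType_eq_zero]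
      exact congrArg Subtype.val e1
    have h5 : Nat.card Cx⟦e.symm ⟨g, hg⟩⟧ = Nat.card (Cx⟦g⟧ ⊓ alternatingGroup (Fin 7) : Subgroup _) := by
      rw [← card_Cx_subtype _ ⟨g, hg⟩]
      exact Nat.eq_of_mul_eq_mul_right (cs_pos (⟨g, hg⟩ : alternatingGroup (Fin 7))) (by
        rw [card_Cx_mul_cs, ← cs_equiv e.symm, card_Cx_mul_cs, Nat.card_congr e.toEquiv])
    have h6 := H1.card_inf_mul_relIndex (alternatingGroup (Fin 7)) Cx⟦g⟧
    have h7 := relIndex_dvd_index_of_normal (alternatingGroup (Fin 7)) Cx⟦g⟧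
    rw [alternatingGroup.index_eq_two, Nat.dvd_prime Nat.prime_two] at h7
    rw [Equiv.Perm.nat_card_centralizer, Fintype.card_fin, h4, inf_comm, ← h5] at h6
    rcases h7 with h | h <;> rw [h] at h6 <;> omega
  obtain ⟨x0, a0, b0⟩ := key {2, 2} 48 (by decide) (by decide) (by decide) (by decide) (by decide)
  obtain ⟨x1, a1, b1⟩ := key {3} 72 (by decide) (by decide) (by decide) (by decide) (by decide)
  obtain ⟨x2, a2, b2⟩ := key {3, 3} 18 (by decide) (by decide) (by decide) (by decide) (by decide)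
  obtain ⟨x3, a3, b3⟩ := key {4, 2} 8 (by decide) (by decide) (by decide) (by decide) (by decide)
  obtain ⟨x4, a4, b4⟩ := key {5} 10 (by decide) (by decide) (by decide) (by decide) (by decide)
  obtain ⟨x5, a5, b5⟩ := key {7} 7 (by decide) (by decide) (by decide) (by decide) (by decide)
  have inj : Function.Injective fun i => cs⟦![x0, x1, x2, x3, x4, x5] i⟧ := fun i j h => by
    have := card_eq_of_index h
    fin_cases i <;> fin_cases j <;> first | rfl | (simp at this; omega)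
  refine le_trans (by rw [Set.ncard_range_of_injective inj]; simp) (Set.ncard_le_ncard
    (s := Set.range fun i => cs⟦![x0, x1, x2, x3, x4, x5] i⟧) ?_ sizes_fin)
  rintro _ ⟨i, rfl⟩
  refine mem_sizes hZ ?_
  fin_cases i
  exacts [a0, a1, a2, a3, a4, a5]

end H72.Rk
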